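import Mathlib
import Cfsg.Prelude.Def_Characters

set_option autoImplicit false

/-!
# The abstract Brauer-Suzuki-Wall theorem (S3282): shared definitions (helper30)

`Hyp t s K` bundles the hypotheses of S3282 (in the order of the frozen statement):
`H = C_G(t) = K⟨s⟩`, `K` abelian containing the involution `t`, `s` an involution of `H` outside
`K` inverting `K` with `C_K(s) = ⟨t⟩`, `K ∩ K^g = 1` for `g ∉ H`, and all involutions conjugate.

`Basic t s K` collects the elementary consequences used everywhere (proved once, module [B1]).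

`IsOuter K x`: `x` is not conjugate to an element of `K` (in particular `x ≠ 1`).
`rinv x`: the number of involutions inverting `x`.

`PartI K δ Χ`: the output of the character-theoretic part (for `4 ≤ |K|`): with `k = |K|`,
`q = 2k + δ` (`δ = ±1`): `|G| = 2k(2k+δ)(k+δ) = q(q²-1)/2`, and `Χ` is an irreducible character of
degree `q`, equal to `δ` on `K ∖ 1`, which on outer elements `x` satisfies
`rinv x = q + k Χ(x)` (`δ = 1`) resp. `rinv x = (k-1) Χ(x)` (`δ = -1`).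

`Concl G` is the conclusion of S3282.
-/

namespace Cfsg.Agent.Lib.Helper30.BSW

/-- The hypotheses of the abstract Brauer-Suzuki-Wall theorem. -/
structure Hyp {G : Type*} [Group G] (t s : G) (K : Subgroup G) : Prop where
  ht : orderOf t = 2
  hKab : IsMulCommutative ↥K
  hKH : K ≤ Subgroup.centralizer ({t} : Set G)
  htK : t ∈ K
  hs : orderOf s = 2
  hsH : s ∈ Subgroup.centralizer ({t} : Set G)
  hsK : s ∉ K
  hH : K ⊔ Subgroup.zpowers s = Subgroup.centralizer ({t} : Set G)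
  hCK : K ⊓ Subgroup.centralizer ({s} : Set G) = Subgroup.zpowers t
  hinv : ∀ x ∈ K, s * x * s⁻¹ = x⁻¹
  hTI : ∀ g : G, g ∉ Subgroup.centralizer ({t} : Set G) →
    K ⊓ K.map (MulAut.conj g).toMonoidHom = ⊥
  hconj : ∀ x y : G, orderOf x = 2 → orderOf y = 2 → IsConj x y

/-- Elementary consequences of `Hyp` (module [B1]). -/
structure Basic {G : Type*} [Group G] (t s : G) (K : Subgroup G) : Prop where
  /-- `K` is commutative, elementwise. -/
  comm : ∀ a ∈ K, ∀ b ∈ K, a * b = b * a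
  /-- `t` is the only involution of `K`. -/
  sq_eq_one : ∀ x ∈ K, x * x = 1 → x = 1 ∨ x = t
  /-- `C_G(t) = K ∪ K s`. -/
  mem_H : ∀ h : G, h ∈ Subgroup.centralizer ({t} : Set G) ↔ h ∈ K ∨ ∃ x ∈ K, h = x * s
  /-- the elements of `K s` are involutions. -/
  invol_coset : ∀ x ∈ K, orderOf (x * s) = 2
  /-- the elements of `K s` invert `K`. -/
  inv_coset : ∀ x ∈ K, ∀ y ∈ K, (x * s) * y * (x * s)⁻¹ = y⁻¹
  /-- `K ∖ 1` is a T.I. set with normalizer `C_G(t)`. -/
  ti : ∀ g x : G, x ∈ K → x ≠ 1 → g * x * g⁻¹ ∈ K → g ∈ Subgroup.centralizer ({t} : Set G)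
  /-- fusion in `K` is by inversion only. -/
  fuse : ∀ g x : G, x ∈ K → g * x * g⁻¹ ∈ K → g * x * g⁻¹ = x ∨ g * x * g⁻¹ = x⁻¹
  /-- centralizers of the elements of `K ∖ ⟨t⟩`. -/
  cent : ∀ x ∈ K, x ≠ 1 → x ≠ t → Subgroup.centralizer ({x} : Set G) = K
  /-- centralizers of the elements of `K ∖ 1` lie in `C_G(t)`. -/
  cent_le : ∀ x ∈ K, x ≠ 1 →
    Subgroup.centralizer ({x} : Set G) ≤ Subgroup.centralizer ({t} : Set G)
  card_H : Nat.card (Subgroup.centralizer ({t} : Set G)) = 2 * Nat.card K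
  even_K : Even (Nat.card K)
  /-- the involutions of `C_G(t)` other than `t` are the elements of `K s`. -/
  invol_H : ∀ h ∈ Subgroup.centralizer ({t} : Set G), orderOf h = 2 → h ≠ t →
    ∃ x ∈ K, h = x * s

/-- `x` is not conjugate to an element of `K`. -/
def IsOuter {G : Type*} [Group G] (K : Subgroup G) (x : G) : Prop :=
  ∀ g : G, g * x * g⁻¹ ∉ K

/-- The number of involutions inverting `x`. -/
noncomputable def rinv {G : Type*} [Group G] (x : G) : ℕ :=
  Nat.card {u : G // orderOf u = 2 ∧ u * x * u⁻¹ = x⁻¹}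

/-- Output of the character-theoretic part. -/
structure PartI {G : Type*} [Group G] (K : Subgroup G) (δ : ℤ) (Χ : G → ℂ) : Prop where
  hδ : δ = 1 ∨ δ = -1
  hirr : Cfsg.IsIrrCharacter G Χ
  hdeg : Χ 1 = ((2 * (Nat.card K : ℤ) + δ : ℤ) : ℂ)
  hval : ∀ x ∈ K, x ≠ 1 → Χ x = (δ : ℂ)
  hcard : (Nat.card G : ℤ) =
    2 * (Nat.card K : ℤ) * (2 * (Nat.card K : ℤ) + δ) * ((Nat.card K : ℤ) + δ)
  hout : ∀ x : G, IsOuter K x → (rinv x : ℂ) =
    if δ = 1 then ((2 * (Nat.card K : ℤ) + 1 : ℤ) : ℂ) + (Nat.card K : ℂ) * Χ x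
    else ((Nat.card K : ℂ) - 1) * Χ x

/-- The conclusion of S3282. -/
def Concl (G : Type*) [Group G] : Prop :=
  ∃ Q D : Subgroup G, 2 * Nat.card G = Nat.card ↥Q * (Nat.card ↥Q + 1) * (Nat.card ↥Q - 1) ∧
    (∀ x ∈ Q, x ≠ 1 → Subgroup.centralizer ({x} : Set G) = Q) ∧
    IsMulCommutative ↥D ∧ 2 * Nat.card ↥D + 1 = Nat.card ↥Q ∧ Q ⊓ D = ⊥ ∧
    Subgroup.normalizer (Q : Set G) = Q ⊔ D ∧
    ∀ X : Subgroup G, X ≤ D → X ≠ ⊥ →
      Subgroup.normalizer (X : Set G) = Subgroup.normalizer (D : Set G) ∧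
      ∃ u : G, orderOf u = 2 ∧ u ∉ D ∧ (∀ d ∈ D, u * d * u⁻¹ = d⁻¹) ∧
        Subgroup.normalizer (D : Set G) = D ⊔ Subgroup.zpowers u

end Cfsg.Agent.Lib.Helper30.BSW
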