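import Mathlib
import Cfsg.Agent.Lib.Helper30.BSW.Defs
import Cfsg.Agent.Lib.Helper78.CharOrtho
import Cfsg.Agent.Lib.Helper78.CharMore
import Cfsg.Agent.Lib.Helper78.ExcGram
import Cfsg.Agent.Lib.Helper78.ExcConcrete

set_option autoImplicit false

/-!
# Abstract Brauer-Suzuki-Wall (S3282): definitions for the character-theoretic part (helper30)

Pure lattice data: `I` indexes the irreducible characters (`i₀` the principal one, `deg` the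
degrees), `Ψ` is the dual group of `K` (`o` the trivial character, `ι` inversion, `ν` the unique
character of order two), and `g ψ i = ⟨χ_i|_K, 1_K - ψ⟩` is the coefficient of `χ_i` in
`Ind_K^G (1_K - ψ)`.

* `LatHyp`: what character theory gives (Gram matrix `2 + [ψ = ψ'] + [ψ = ι ψ']`, etc.).
* `LatI` / `LatII`: the two possible shapes of the vectors `g ψ` (`LatII` only for `|K| = 6`; it is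
  contradictory once the values at the involution are taken into account).
* `LatNum`: the numerical output (degrees and group order).
* `tau g ε i = ∑ ψ, g ψ i * ε ψ` is `- χ_i(t)` when `ε ψ = ψ(t)`.

Concrete data: `aco K χ ψ : ℤ` is `gco (χ|_K) ψ = ⟨χ|_K, 1_K⟩ - ⟨χ|_K, ψ⟩`; `oneIrr G` is the
principal character; `sgn ψ z : ℤ` is `ψ z` for `z` with `z * z = 1`.
-/

namespace Cfsg.Agent.Lib.Helper30.BSW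

open Cfsg Cfsg.Agent.Lib.Helper78
open scoped ComplexConjugate IsMulCommutative

section Pure

variable {I Ψ : Type*} [Fintype I] [Fintype Ψ] [DecidableEq I] [DecidableEq Ψ]

/-- `ev a` is the unit vector at `a`. -/
def ev (a i : I) : ℤ := if i = a then 1 else 0

/-- `tau g ε i = ∑ ψ, g ψ i * ε ψ`. -/
def tau (g : Ψ → I → ℤ) (ε : Ψ → ℤ) (i : I) : ℤ := ∑ ψ, g ψ i * ε ψ

/-- The lattice hypotheses. -/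
structure LatHyp (i₀ : I) (deg : I → ℤ) (o : Ψ) (ι : Ψ → Ψ) (ν : Ψ) (g : Ψ → I → ℤ) : Prop where
  deg_pos : ∀ i, 0 < deg i
  deg_i₀ : deg i₀ = 1
  ι_ι : ∀ ψ, ι (ι ψ) = ψ
  ι_fix : ∀ ψ, ι ψ = ψ ↔ ψ = o ∨ ψ = ν
  ν_ne : ν ≠ o
  card_Ψ : 4 ≤ Fintype.card Ψ
  g_o : ∀ i, g o i = 0
  g_ι : ∀ ψ i, g (ι ψ) i = g ψ i
  g_i₀ : ∀ ψ, ψ ≠ o → g ψ i₀ = 1
  gram : ∀ ψ ψ', ψ ≠ o → ψ' ≠ o → ∑ i, g ψ i * g ψ' i =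
    2 + (if ψ = ψ' then 1 else 0) + (if ψ = ι ψ' then 1 else 0)
  gdeg : ∀ ψ, ∑ i, g ψ i * deg i = 0

/-- Shape I: `g ψ = e₀ + δ e_X - δ e_{Θ ψ}` (`ψ ≠ o, ν`), `g ν = e₀ + δ e_X + e₂ e_{Y₂} + e₃ e_{Y₃}`. -/
structure LatI (i₀ : I) (o : Ψ) (ι : Ψ → Ψ) (ν : Ψ) (g : Ψ → I → ℤ) (δ : ℤ) (X : I) (Θ : Ψ → I)
    (e₂ e₃ : ℤ) (Y₂ Y₃ : I) : Prop where
  hδ : δ = 1 ∨ δ = -1
  he₂ : e₂ = 1 ∨ e₂ = -1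
  he₃ : e₃ = 1 ∨ e₃ = -1
  g_gen : ∀ ψ, ψ ≠ o → ψ ≠ ν → ∀ i, g ψ i = ev i₀ i + δ * ev X i - δ * ev (Θ ψ) i
  g_ν : ∀ i, g ν i = ev i₀ i + δ * ev X i + e₂ * ev Y₂ i + e₃ * ev Y₃ i
  Θ_eq : ∀ ψ ψ', ψ ≠ o → ψ ≠ ν → ψ' ≠ o → ψ' ≠ ν → (Θ ψ = Θ ψ' ↔ ψ' = ψ ∨ ψ' = ι ψ)
  X_ne : X ≠ i₀
  Θ_ne : ∀ ψ, ψ ≠ o → ψ ≠ ν → Θ ψ ≠ i₀ ∧ Θ ψ ≠ X ∧ Θ ψ ≠ Y₂ ∧ Θ ψ ≠ Y₃
  Y₂_ne : Y₂ ≠ i₀ ∧ Y₂ ≠ X
  Y₃_ne : Y₃ ≠ i₀ ∧ Y₃ ≠ X ∧ Y₃ ≠ Y₂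

/-- Shape II (only possible for `|Ψ| = 6`): `g ψ = e₀ + δ e_X - δ e_{Θ ψ}` (`ψ ≠ o, ν`),
`g ν = e₀ - δ e_{Θ ψ₁} - δ e_{Θ ψ₂} + e e_Y`. -/
structure LatII (i₀ : I) (o : Ψ) (ι : Ψ → Ψ) (ν : Ψ) (g : Ψ → I → ℤ) (δ : ℤ) (X : I) (Θ : Ψ → I)
    (e : ℤ) (Y : I) (ψ₁ ψ₂ : Ψ) : Prop where
  hδ : δ = 1 ∨ δ = -1
  he : e = 1 ∨ e = -1
  hψ₁ : ψ₁ ≠ o ∧ ψ₁ ≠ ν
  hψ₂ : ψ₂ ≠ o ∧ ψ₂ ≠ ν
  h12 : ψ₂ ≠ ψ₁ ∧ ψ₂ ≠ ι ψ₁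
  all : ∀ ψ, ψ = o ∨ ψ = ν ∨ ψ = ψ₁ ∨ ψ = ι ψ₁ ∨ ψ = ψ₂ ∨ ψ = ι ψ₂
  g_gen : ∀ ψ, ψ ≠ o → ψ ≠ ν → ∀ i, g ψ i = ev i₀ i + δ * ev X i - δ * ev (Θ ψ) i
  g_ν : ∀ i, g ν i = ev i₀ i - δ * ev (Θ ψ₁) i - δ * ev (Θ ψ₂) i + e * ev Y i
  Θ_eq : ∀ ψ ψ', ψ ≠ o → ψ ≠ ν → ψ' ≠ o → ψ' ≠ ν → (Θ ψ = Θ ψ' ↔ ψ' = ψ ∨ ψ' = ι ψ)
  X_ne : X ≠ i₀
  Θ_ne : ∀ ψ, ψ ≠ o → ψ ≠ ν → Θ ψ ≠ i₀ ∧ Θ ψ ≠ X ∧ Θ ψ ≠ Y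
  Y_ne : Y ≠ i₀ ∧ Y ≠ X

/-- Numerical output in shape I. -/
structure LatNum (deg : I → ℤ) (o ν : Ψ) (δ : ℤ) (X : I) (Θ : Ψ → I) (e₂ e₃ : ℤ) (Y₂ Y₃ : I)
    (k N : ℤ) : Prop where
  he₂ : e₂ = -δ
  he₃ : e₃ = -δ
  degX : deg X = 2 * k + δ
  degΘ : ∀ ψ, ψ ≠ o → ψ ≠ ν → deg (Θ ψ) = 2 * k + 2 * δ
  degY₂ : deg Y₂ = k + δ
  degY₃ : deg Y₃ = k + δ
  hN : N = 2 * k * (2 * k + δ) * (k + δ)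

end Pure

section Concrete

variable {G : Type*} [Group G]

/-- The principal character. -/
noncomputable def oneIrr (G : Type*) [Group G] : IrrCharacter G :=
  ⟨fun _ => 1, isIrrCharacter_one⟩

theorem oneIrr_apply (x : G) : (oneIrr G : G → ℂ) x = 1 := rfl

/-- `ψ z` as an integer sign (meaningful when `z * z = 1`). -/
noncomputable def sgn {A : Type*} [Group A] (ψ : A →* ℂˣ) (z : A) : ℤ := by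
  classical exact if ((ψ z : ℂˣ) : ℂ) = 1 then 1 else -1

variable [Finite G]

/-- `⟨χ|_K, 1_K⟩ - ⟨χ|_K, ψ⟩` as an integer. -/
noncomputable def aco (K : Subgroup G) [IsMulCommutative ↥K] [Fintype ↥K] (χ : IrrCharacter G)
    (ψ : ↥K →* ℂˣ) : ℤ :=
  Classical.choose (exists_int_gco_restrict K (IsIrrCharacter.isCharacter χ.2) ψ)

theorem aco_spec (K : Subgroup G) [IsMulCommutative ↥K] [Fintype ↥K] (χ : IrrCharacter G)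
    (ψ : ↥K →* ℂˣ) :
    gco (fun y : ↥K => (χ : G → ℂ) (y : G)) ψ = (aco K χ ψ : ℂ) :=
  Classical.choose_spec (exists_int_gco_restrict K (IsIrrCharacter.isCharacter χ.2) ψ)

end Concrete

end Cfsg.Agent.Lib.Helper30.BSW
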