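import Mathlib
import Cfsg.Agent.Lib.Helper30.BSW.CharDefs
import Cfsg.Agent.Lib.Helper73.BSWC3a

set_option autoImplicit false

/-!
# Abstract Brauer-Suzuki-Wall (S3282), module [C3b] (helper30)

`∑_χ χ(t)² ⟨χ|_K, 1 - ψ⟩ / χ(1) = 4 k³ / |G|` for every non-trivial character `ψ` of `K`.
-/

namespace Cfsg.Agent.Lib.Helper30.BSW

open Cfsg Cfsg.Agent.Lib.Helper78
open scoped ComplexConjugate IsMulCommutative

variable {G : Type*} [Group G] [Fintype G] {t s : G} {K : Subgroup G}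
  [IsMulCommutative ↥K] [Fintype ↥K] [Fintype (↥K →* ℂˣ)]

theorem aco_bconst (h : Hyp t s K) (b : Basic t s K)
    (hpairs : ∀ x ∈ K, x ≠ 1 →
      Nat.card {p : G × G // orderOf p.1 = 2 ∧ orderOf p.2 = 2 ∧ p.1 * p.2 = x} = Nat.card K)
    {ψ : ↥K →* ℂˣ} (hψ : ψ ≠ 1) :
    (Nat.card G : ℂ) * ∑ χ : IrrCharacter G,
        (χ : G → ℂ) t * (χ : G → ℂ) t * (aco K χ ψ : ℂ) / (χ : G → ℂ) 1 =
      4 * (Nat.card K : ℂ) ^ 3 := by
  have hA : (Fintype.card ↥K : ℂ) ≠ 0 := by exact_mod_cast Fintype.card_ne_zero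
  have hcard : (Nat.card K : ℂ) = (Fintype.card ↥K : ℂ) := by rw [Nat.card_eq_fintype_card]
  -- the structure constant at the elements of `K`
  have hS : ∀ y : ↥K, (1 - conj ((ψ y : ℂˣ) : ℂ)) * ((Nat.card G : ℂ) * ∑ χ : IrrCharacter G,
      (χ : G → ℂ) t * (χ : G → ℂ) t * (χ : G → ℂ) (y : G) / (χ : G → ℂ) 1) =
      (1 - conj ((ψ y : ℂˣ) : ℂ)) * (4 * (Nat.card K : ℂ) ^ 3) := by
    intro y
    by_cases hy : y = 1
    · rw [hy, one_sub_conj_apply_one, zero_mul, zero_mul]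
    · congr 1
      have hy' : ((y : G))⁻¹ ≠ 1 := by
        intro hc
        apply hy
        apply Subtype.ext
        simpa using hc
      have h1 := Cfsg.Agent.Lib.Helper73.BSW.sum_sq_invol h b ((y : G))⁻¹
      rw [inv_inv, hpairs _ (K.inv_mem y.2) hy'] at h1
      rw [h1]
      ring
  -- expand `aco`
  have h2 : ∀ χ : IrrCharacter G,
      (χ : G → ℂ) t * (χ : G → ℂ) t * (aco K χ ψ : ℂ) / (χ : G → ℂ) 1 =
      (Fintype.card ↥K : ℂ)⁻¹ * ∑ y : ↥K, (1 - conj ((ψ y : ℂˣ) : ℂ)) *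
        ((χ : G → ℂ) t * (χ : G → ℂ) t * (χ : G → ℂ) (y : G) / (χ : G → ℂ) 1) := by
    intro χ
    rw [← aco_spec]
    unfold gco
    rw [Finset.mul_sum, Finset.mul_sum, Finset.mul_sum, Finset.sum_div]
    apply Finset.sum_congr rfl
    intro y _
    ring
  rw [Finset.sum_congr rfl (fun χ _ => h2 χ), ← Finset.mul_sum, Finset.sum_comm]
  have h3 : ∀ y : ↥K, ∑ χ : IrrCharacter G, (1 - conj ((ψ y : ℂˣ) : ℂ)) *
        ((χ : G → ℂ) t * (χ : G → ℂ) t * (χ : G → ℂ) (y : G) / (χ : G → ℂ) 1) =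
      (1 - conj ((ψ y : ℂˣ) : ℂ)) * ∑ χ : IrrCharacter G,
        (χ : G → ℂ) t * (χ : G → ℂ) t * (χ : G → ℂ) (y : G) / (χ : G → ℂ) 1 := by
    intro y
    rw [Finset.mul_sum]
  rw [Finset.sum_congr rfl (fun y _ => h3 y)]
  have h4 : (Nat.card G : ℂ) * ((Fintype.card ↥K : ℂ)⁻¹ * ∑ y : ↥K,
      (1 - conj ((ψ y : ℂˣ) : ℂ)) * ∑ χ : IrrCharacter G,
        (χ : G → ℂ) t * (χ : G → ℂ) t * (χ : G → ℂ) (y : G) / (χ : G → ℂ) 1) =
      (Fintype.card ↥K : ℂ)⁻¹ * ∑ y : ↥K, (1 - conj ((ψ y : ℂˣ) : ℂ)) *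
        ((Nat.card G : ℂ) * ∑ χ : IrrCharacter G,
        (χ : G → ℂ) t * (χ : G → ℂ) t * (χ : G → ℂ) (y : G) / (χ : G → ℂ) 1) := by
    rw [Finset.mul_sum, Finset.mul_sum, Finset.mul_sum]
    apply Finset.sum_congr rfl
    intro y _
    ring
  rw [h4, Finset.sum_congr rfl (fun y _ => hS y), ← Finset.sum_mul, Finset.sum_sub_distrib,
    sum_conj_dual_apply_eq_zero hψ]
  simp only [Finset.sum_const, Finset.card_univ, nsmul_eq_mul, mul_one, sub_zero]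
  rw [hcard]
  field_simp

end Cfsg.Agent.Lib.Helper30.BSW
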