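import Mathlib
import Cfsg.Agent.Lib.Helper30.BSW.CharDefs

set_option autoImplicit false

/-!
# Abstract Brauer-Suzuki-Wall (S3282), module [C2]: the Gram matrix (helper30)

`∑_χ ⟨χ|_K, 1 - ψ⟩ ⟨χ|_K, 1 - ψ'⟩ = 2 + [ψ = ψ'] + [ψ = ψ'⁻¹]` for non-trivial characters
`ψ, ψ'` of `K`.
-/

namespace Cfsg.Agent.Lib.Helper30.BSW

open Cfsg Cfsg.Agent.Lib.Helper78
open scoped ComplexConjugate IsMulCommutative

variable {G : Type*} [Group G] [Fintype G] {t s : G} {K : Subgroup G}
  [IsMulCommutative ↥K] [Fintype ↥K] [Fintype (↥K →* ℂˣ)]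

omit [Fintype G] [IsMulCommutative ↥K] [Fintype ↥K] [Fintype (↥K →* ℂˣ)] in
theorem t_inv_eq (h : Hyp t s K) : t⁻¹ = t := by
  have := pow_orderOf_eq_one t
  rw [h.ht, pow_two] at this
  exact inv_eq_of_mul_eq_one_left this

open scoped Classical in
/-- Second orthogonality on `K`. -/
theorem sum_irr_mul_conj_K (h : Hyp t s K) (b : Basic t s K) {y y' : G} (hy : y ∈ K)
    (hy1 : y ≠ 1) (hy' : y' ∈ K) :
    ∑ χ : IrrCharacter G, (χ : G → ℂ) y * conj ((χ : G → ℂ) y') =
      (Nat.card K : ℂ) * ((if y' = y then 1 else 0) + (if y' = y⁻¹ then 1 else 0)) := by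
  by_cases h1 : y' = y
  · subst h1
    rw [if_pos rfl, second_orthogonality_of_isConj (IsConj.refl y')]
    by_cases ht : y' = t
    · rw [ht, if_pos (t_inv_eq h).symm, b.card_H]
      push_cast
      ring
    · have hne : y' ≠ y'⁻¹ := by
        intro hc
        have h2 : y' * y' = 1 := by
          nth_rewrite 1 [hc]
          exact inv_mul_cancel y'
        rcases b.sq_eq_one y' hy h2 with h3 | h3
        · exact hy1 h3
        · exact ht h3
      rw [if_neg hne, b.cent y' hy hy1 ht]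
      ring
  · by_cases h2 : y' = y⁻¹
    · rw [if_neg h1, if_pos h2]
      have hc : IsConj y y' := by
        rw [isConj_iff]
        exact ⟨s, by rw [h.hinv y hy, h2]⟩
      have ht : y ≠ t := by
        intro ht
        apply h1
        rw [h2, ht, t_inv_eq h]
      rw [second_orthogonality_of_isConj hc, b.cent y hy hy1 ht]
      ring
    · rw [if_neg h1, if_neg h2]
      have hc : ¬ IsConj y y' := by
        intro hc
        obtain ⟨c, hc⟩ := isConj_iff.mp hc
        rcases b.fuse c y hy (by rw [hc]; exact hy') with h3 | h3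
        · exact h1 (by rw [← hc, h3])
        · exact h2 (by rw [← hc, h3])
      rw [second_orthogonality_of_not_isConj hc]
      ring

open scoped Classical in
theorem aco_gram (h : Hyp t s K) (b : Basic t s K) {ψ ψ' : ↥K →* ℂˣ} (hψ : ψ ≠ 1)
    (hψ' : ψ' ≠ 1) :
    ∑ χ : IrrCharacter G, aco K χ ψ * aco K χ ψ' =
      2 + (if ψ = ψ' then 1 else 0) + (if ψ = ψ'⁻¹ then 1 else 0) := by
  have hA : (Fintype.card ↥K : ℂ) ≠ 0 := by exact_mod_cast Fintype.card_ne_zero
  have hcard : (Nat.card K : ℂ) = (Fintype.card ↥K : ℂ) := by rw [Nat.card_eq_fintype_card]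
  have hψ'inv : ψ'⁻¹ ≠ 1 := by
    intro hc
    apply hψ'
    ext y
    have h5 : ψ'⁻¹ y = (1 : ↥K →* ℂˣ) y := by rw [hc]
    rw [MonoidHom.inv_apply, MonoidHom.one_apply, inv_eq_one] at h5
    rw [h5, MonoidHom.one_apply]
  -- expand the product of the two coefficients
  have key : ∀ χ : IrrCharacter G, ((aco K χ ψ : ℤ) : ℂ) * ((aco K χ ψ' : ℤ) : ℂ) =
      (Fintype.card ↥K : ℂ)⁻¹ * (Fintype.card ↥K : ℂ)⁻¹ * ∑ y : ↥K, ∑ y' : ↥K,
        (1 - conj ((ψ y : ℂˣ) : ℂ)) * (1 - ((ψ' y' : ℂˣ) : ℂ)) *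
          ((χ : G → ℂ) (y : G) * conj ((χ : G → ℂ) (y' : G))) := by
    intro χ
    have h1 : ((aco K χ ψ' : ℤ) : ℂ) = conj ((aco K χ ψ' : ℤ) : ℂ) := (map_intCast (starRingEnd ℂ) _).symm
    rw [h1, ← aco_spec, ← aco_spec]
    unfold gco
    rw [map_mul, map_sum, map_inv₀, Complex.conj_natCast]
    rw [mul_mul_mul_comm, Finset.sum_mul_sum]
    congr 1
    apply Finset.sum_congr rfl
    intro y _
    apply Finset.sum_congr rfl
    intro y' _
    rw [map_mul, map_sub, map_one, Complex.conj_conj]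
    ring
  have hcast : ((∑ χ : IrrCharacter G, aco K χ ψ * aco K χ ψ' : ℤ) : ℂ) =
      ((2 + (if ψ = ψ' then 1 else 0) + (if ψ = ψ'⁻¹ then 1 else 0) : ℤ) : ℂ) := by
    push_cast
    rw [Finset.sum_congr rfl (fun χ _ => key χ), ← Finset.mul_sum, Finset.sum_comm]
    -- inner sums
    have h2 : ∀ y : ↥K, ∑ χ : IrrCharacter G, ∑ y' : ↥K,
        (1 - conj ((ψ y : ℂˣ) : ℂ)) * (1 - ((ψ' y' : ℂˣ) : ℂ)) *
          ((χ : G → ℂ) (y : G) * conj ((χ : G → ℂ) (y' : G))) =
        (Fintype.card ↥K : ℂ) * ((1 - conj ((ψ y : ℂˣ) : ℂ)) * (1 - ((ψ' y : ℂˣ) : ℂ)) +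
          (1 - conj ((ψ y : ℂˣ) : ℂ)) * (1 - ((ψ'⁻¹ y : ℂˣ) : ℂ))) := by
      intro y
      by_cases hy : y = 1
      · rw [hy, one_sub_conj_apply_one]
        simp
      · have hy1 : (y : G) ≠ 1 := by
          intro hc
          apply hy
          exact Subtype.ext hc
        rw [Finset.sum_comm]
        have h3 : ∀ y' : ↥K, ∑ χ : IrrCharacter G,
            (1 - conj ((ψ y : ℂˣ) : ℂ)) * (1 - ((ψ' y' : ℂˣ) : ℂ)) *
              ((χ : G → ℂ) (y : G) * conj ((χ : G → ℂ) (y' : G))) =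
            (1 - conj ((ψ y : ℂˣ) : ℂ)) * (1 - ((ψ' y' : ℂˣ) : ℂ)) *
              ((Fintype.card ↥K : ℂ) * ((if y' = y then 1 else 0) +
                (if y' = y⁻¹ then 1 else 0))) := by
          intro y'
          rw [← Finset.mul_sum, sum_irr_mul_conj_K h b y.2 hy1 y'.2, hcard]
          congr 2
          congr 1
          · by_cases hc : y' = y
            · rw [if_pos hc, if_pos (by rw [hc])]
            · rw [if_neg hc, if_neg (fun hc' => hc (Subtype.ext hc'))]
          · by_cases hc : y' = y⁻¹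
            · rw [if_pos hc, if_pos (by rw [hc]; rfl)]
            · rw [if_neg hc, if_neg (fun hc' => hc (Subtype.ext (by rw [hc']; rfl)))]
        rw [Finset.sum_congr rfl (fun y' _ => h3 y')]
        have h4 : ∀ y' : ↥K, (1 - conj ((ψ y : ℂˣ) : ℂ)) * (1 - ((ψ' y' : ℂˣ) : ℂ)) *
              ((Fintype.card ↥K : ℂ) * ((if y' = y then 1 else 0) +
                (if y' = y⁻¹ then 1 else 0))) =
            (if y' = y then (Fintype.card ↥K : ℂ) * ((1 - conj ((ψ y : ℂˣ) : ℂ)) *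
              (1 - ((ψ' y' : ℂˣ) : ℂ))) else 0) +
            (if y' = y⁻¹ then (Fintype.card ↥K : ℂ) * ((1 - conj ((ψ y : ℂˣ) : ℂ)) *
              (1 - ((ψ' y' : ℂˣ) : ℂ))) else 0) := by
          intro y'
          split_ifs <;> ring
        rw [Finset.sum_congr rfl (fun y' _ => h4 y'), Finset.sum_add_distrib,
          Finset.sum_ite_eq', Finset.sum_ite_eq', if_pos (Finset.mem_univ _),
          if_pos (Finset.mem_univ _)]
        rw [MonoidHom.inv_apply, map_inv]
        ring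
    rw [Finset.sum_congr rfl (fun y _ => h2 y), ← Finset.mul_sum, Finset.sum_add_distrib,
      sum_one_sub_conj_mul_one_sub hψ hψ', sum_one_sub_conj_mul_one_sub hψ hψ'inv]
    have e1 : (if ψ' = ψ then (1 : ℂ) else 0) = if ψ = ψ' then (1 : ℂ) else 0 := by
      by_cases hc : ψ = ψ'
      · rw [if_pos hc, if_pos hc.symm]
      · rw [if_neg hc, if_neg (fun hc' => hc hc'.symm)]
    have e2 : (if ψ'⁻¹ = ψ then (1 : ℂ) else 0) = if ψ = ψ'⁻¹ then (1 : ℂ) else 0 := by
      by_cases hc : ψ = ψ'⁻¹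
      · rw [if_pos hc, if_pos hc.symm]
      · rw [if_neg hc, if_neg (fun hc' => hc hc'.symm)]
    rw [e1, e2]
    field_simp
    ring
  exact_mod_cast hcast

end Cfsg.Agent.Lib.Helper30.BSW
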