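import Mathlib
import Cfsg.Agent.Lib.Helper30.BSW.CharDefs

set_option autoImplicit false

/-!
# Abstract Brauer-Suzuki-Wall (S3282), module [C4]: the real character of `K` (helper30)

`K` has exactly one involution, hence exactly one non-trivial character `ν` with `ν⁻¹ = ν`;
`sgn ψ z` is the value `ψ z` at an element with `z * z = 1`; `∑ ψ, ψ t = 0`.
-/

namespace Cfsg.Agent.Lib.Helper30.BSW

open Cfsg Cfsg.Agent.Lib.Helper78
open scoped ComplexConjugate IsMulCommutative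

theorem sgn_spec {A : Type*} [Group A] (ψ : A →* ℂˣ) {z : A} (hz : z * z = 1) :
    ((ψ z : ℂˣ) : ℂ) = (sgn ψ z : ℂ) ∧ (sgn ψ z = 1 ∨ sgn ψ z = -1) := by
  classical
  have h1 : ψ z * ψ z = 1 := by rw [← map_mul, hz, map_one]
  have h2 : ((ψ z : ℂˣ) : ℂ) * ((ψ z : ℂˣ) : ℂ) = 1 := by
    rw [← Units.val_mul, h1, Units.val_one]
  have h3 : ((ψ z : ℂˣ) : ℂ) = 1 ∨ ((ψ z : ℂˣ) : ℂ) = -1 := mul_self_eq_one_iff.mp h2
  unfold sgn
  by_cases h4 : ((ψ z : ℂˣ) : ℂ) = 1
  · rw [if_pos h4]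
    exact ⟨by rw [h4]; norm_num, Or.inl rfl⟩
  · rw [if_neg h4]
    rcases h3 with h3 | h3
    · exact absurd h3 h4
    · exact ⟨by rw [h3]; norm_num, Or.inr rfl⟩

section Dual

variable {A : Type*} [CommGroup A] [Fintype A] [Fintype (A →* ℂˣ)]

/-- The number of characters of square one equals the number of elements of square one. -/
theorem card_dual_sq_eq_one [DecidableEq A] [DecidableEq (A →* ℂˣ)] :
    (Finset.univ.filter (fun ψ : A →* ℂˣ => ψ * ψ = 1)).card =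
      (Finset.univ.filter (fun y : A => y * y = 1)).card := by
  have hA : (Fintype.card A : ℂ) ≠ 0 := by exact_mod_cast Fintype.card_ne_zero
  have h1 : ∑ ψ : A →* ℂˣ, ∑ y : A, (((ψ * ψ) y : ℂˣ) : ℂ) =
      (Fintype.card A : ℂ) * ((Finset.univ.filter (fun ψ : A →* ℂˣ => ψ * ψ = 1)).card : ℂ) := by
    have : ∀ ψ : A →* ℂˣ, ∑ y : A, (((ψ * ψ) y : ℂˣ) : ℂ) =
        if ψ * ψ = 1 then (Fintype.card A : ℂ) else 0 := by
      intro ψ
      by_cases hψ : ψ * ψ = 1
      · rw [if_pos hψ, hψ]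
        simp
      · rw [if_neg hψ]
        exact sum_dual_apply_eq_zero hψ
    rw [Finset.sum_congr rfl (fun ψ _ => this ψ), Finset.sum_ite, Finset.sum_const_zero, add_zero,
      Finset.sum_const, nsmul_eq_mul, mul_comm]
  have h2 : ∑ ψ : A →* ℂˣ, ∑ y : A, (((ψ * ψ) y : ℂˣ) : ℂ) =
      (Fintype.card A : ℂ) * ((Finset.univ.filter (fun y : A => y * y = 1)).card : ℂ) := by
    rw [Finset.sum_comm]
    have : ∀ y : A, ∑ ψ : A →* ℂˣ, (((ψ * ψ) y : ℂˣ) : ℂ) =
        if y * y = 1 then (Fintype.card A : ℂ) else 0 := by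
      intro y
      have h3 : ∀ ψ : A →* ℂˣ, (((ψ * ψ) y : ℂˣ) : ℂ) = ((ψ (y * y) : ℂˣ) : ℂ) := by
        intro ψ
        rw [MonoidHom.mul_apply, map_mul]
      rw [Finset.sum_congr rfl (fun ψ _ => h3 ψ), dual_sum_apply]
      split_ifs <;> rfl
    rw [Finset.sum_congr rfl (fun y _ => this y), Finset.sum_ite, Finset.sum_const_zero, add_zero,
      Finset.sum_const, nsmul_eq_mul, mul_comm]
  have h3 := h1.symm.trans h2
  have h4 := mul_left_cancel₀ hA h3
  exact_mod_cast h4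

theorem sum_sgn_of_ne_one {z : A} (hz : z * z = 1) (hz1 : z ≠ 1) :
    ∑ ψ : A →* ℂˣ, sgn ψ z = 0 := by
  classical
  have h1 : ((∑ ψ : A →* ℂˣ, sgn ψ z : ℤ) : ℂ) = 0 := by
    push_cast
    rw [← Finset.sum_congr rfl (fun ψ _ => (sgn_spec ψ hz).1), dual_sum_apply, if_neg hz1]
  exact_mod_cast h1

/-- If exactly two elements have square one, exactly one non-trivial character is real. -/
theorem exists_real_dual_of_card {z : A} (hz : z * z = 1) (hz1 : z ≠ 1)
    (hall : ∀ y : A, y * y = 1 → y = 1 ∨ y = z) :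
    ∃ ν : A →* ℂˣ, ν ≠ 1 ∧ ∀ ψ : A →* ℂˣ, ψ⁻¹ = ψ ↔ ψ = 1 ∨ ψ = ν := by
  classical
  have h1 := card_dual_sq_eq_one (A := A)
  have h2 : (Finset.univ.filter (fun y : A => y * y = 1)) = {1, z} := by
    ext y
    simp only [Finset.mem_filter, Finset.mem_univ, true_and, Finset.mem_insert,
      Finset.mem_singleton]
    constructor
    · exact hall y
    · rintro (rfl | rfl)
      · simp
      · exact hz
  rw [h2, Finset.card_pair (Ne.symm hz1)] at h1
  obtain ⟨a, c, hac, hset⟩ := Finset.card_eq_two.mp h1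
  have hmem : ∀ ψ : A →* ℂˣ, ψ * ψ = 1 ↔ ψ = a ∨ ψ = c := by
    intro ψ
    have := Finset.ext_iff.mp hset ψ
    simpa using this
  have hinv : ∀ ψ : A →* ℂˣ, ψ⁻¹ = ψ ↔ ψ * ψ = 1 := by
    intro ψ
    constructor
    · intro h
      ext y
      have h5 : ψ⁻¹ y = ψ y := by rw [h]
      rw [MonoidHom.inv_apply] at h5
      rw [MonoidHom.mul_apply, MonoidHom.one_apply]
      nth_rewrite 1 [← h5]
      rw [inv_mul_cancel]
    · intro h
      ext y
      have h5 : (ψ * ψ) y = 1 := by rw [h, MonoidHom.one_apply]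
      rw [MonoidHom.mul_apply] at h5
      rw [MonoidHom.inv_apply, inv_eq_of_mul_eq_one_left h5]
  have h1mem : (1 : A →* ℂˣ) = a ∨ (1 : A →* ℂˣ) = c := (hmem 1).mp (by ext y; simp)
  rcases h1mem with h1a | h1c
  · refine ⟨c, ?_, ?_⟩
    · rw [h1a]; exact Ne.symm hac
    · intro ψ
      rw [hinv, hmem, h1a]
  · refine ⟨a, ?_, ?_⟩
    · rw [h1c]; exact hac
    · intro ψ
      rw [hinv, hmem, h1c]
      exact Or.comm

end Dual

section Main

variable {G : Type*} [Group G] {t s : G} {K : Subgroup G}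
  [IsMulCommutative ↥K] [Fintype ↥K] [Fintype (↥K →* ℂˣ)]

theorem t_mul_t (h : Hyp t s K) : (⟨t, h.htK⟩ : ↥K) * ⟨t, h.htK⟩ = 1 := by
  apply Subtype.ext
  have := pow_orderOf_eq_one t
  rw [h.ht, pow_two] at this
  simpa using this

theorem t_ne_one (h : Hyp t s K) : t ≠ 1 := by
  intro h1
  have := h.ht
  rw [h1, orderOf_one] at this
  omega

theorem exists_real_dual (h : Hyp t s K) (b : Basic t s K) :
    ∃ ν : ↥K →* ℂˣ, ν ≠ 1 ∧ ∀ ψ : ↥K →* ℂˣ, ψ⁻¹ = ψ ↔ ψ = 1 ∨ ψ = ν := by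
  apply exists_real_dual_of_card (t_mul_t h)
  · intro hc
    exact t_ne_one h (congrArg Subtype.val hc)
  · intro y hy
    have h1 : (y : G) * (y : G) = 1 := by
      have := congrArg Subtype.val hy
      simpa using this
    rcases b.sq_eq_one (y : G) y.2 h1 with h2 | h2
    · left; exact Subtype.ext h2
    · right; exact Subtype.ext h2

theorem sum_sgn (h : Hyp t s K) : ∑ ψ : ↥K →* ℂˣ, sgn ψ (⟨t, h.htK⟩ : ↥K) = 0 := by
  apply sum_sgn_of_ne_one (t_mul_t h)
  intro hc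
  exact t_ne_one h (congrArg Subtype.val hc)

end Main

end Cfsg.Agent.Lib.Helper30.BSW
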