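import Mathlib
import Cfsg.Agent.Lib.Helper30.BSW.CharDefs
import Cfsg.Agent.Lib.Helper30.BSW.CharReal
import Cfsg.Agent.Lib.Helper79.ClassCount
import Cfsg.Agent.S0235
import Cfsg.Agent.Lib.Helper62.BSWLatB
import Cfsg.Agent.Lib.Helper66.BSWLat3
import Cfsg.Agent.Lib.Helper73.BSWC3a
import Cfsg.Agent.Lib.Helper30.BSW.CharBconst
import Cfsg.Agent.Lib.Helper30.BSW.CharGram
import Cfsg.Agent.Lib.Helper50.BSWLat2
import Cfsg.Agent.Lib.Helper50.BSWLat4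
import Cfsg.Agent.Lib.Helper78.BSWC1

set_option autoImplicit false

/-!
# Abstract Brauer-Suzuki-Wall (S3282): assembly of the character-theoretic part (helper30)

`partI_of_hyp'`: from `Hyp`/`Basic`, `4 ≤ |K|` and the count of pairs of involutions with a given
product in `K ∖ 1`, the output `PartI K δ Χ` of the character theory.
-/

namespace Cfsg.Agent.Lib.Helper30.BSW

open Cfsg Cfsg.Agent.Lib.Helper78
open Cfsg.Agent.Lib.Helper62.BSW Cfsg.Agent.Lib.Helper66.BSW Cfsg.Agent.Lib.Helper73.BSW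
open Cfsg.Agent.Lib.Helper50.BSW Cfsg.Agent.Lib.Helper78.BSWC1
open scoped ComplexConjugate IsMulCommutative


section Assembly


variable {G : Type*} [Group G] [Fintype G] {t s : G} {K : Subgroup G}
  [IsMulCommutative ↥K] [Fintype ↥K] [Fintype (↥K →* ℂˣ)]

theorem charDegree_oneIrr : charDegree ((oneIrr G : IrrCharacter G) : G → ℂ) = 1 := by
  have h1 := IsCharacter.apply_one_eq_charDegree (IsIrrCharacter.isCharacter (oneIrr G).2)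
  rw [oneIrr_apply] at h1
  exact_mod_cast h1.symm

theorem apply_one_eq (χ : IrrCharacter G) :
    (χ : G → ℂ) 1 = ((charDegree (χ : G → ℂ) : ℤ) : ℂ) := by
  rw [IsCharacter.apply_one_eq_charDegree (IsIrrCharacter.isCharacter χ.2)]
  push_cast
  rfl

open scoped Classical in
-- [C5a]
theorem latHyp_concrete (h : Hyp t s K) (b : Basic t s K) (hk : 4 ≤ Nat.card K)
    {ν : ↥K →* ℂˣ} (hν : ν ≠ 1) (hν' : ∀ ψ : ↥K →* ℂˣ, ψ⁻¹ = ψ ↔ ψ = 1 ∨ ψ = ν) :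
    LatHyp (oneIrr G) (fun χ : IrrCharacter G => (charDegree (χ : G → ℂ) : ℤ))
      (1 : ↥K →* ℂˣ) (fun ψ => ψ⁻¹) ν (fun ψ χ => aco K χ ψ) where
  deg_pos χ := by
    have := IsIrrCharacter.charDegree_pos χ.2
    exact_mod_cast this
  deg_i₀ := by
    rw [charDegree_oneIrr]; rfl
  ι_ι ψ := inv_inv ψ
  ι_fix ψ := hν' ψ
  ν_ne := hν
  card_Ψ := by
    rw [dual_card, ← Nat.card_eq_fintype_card]; exact hk
  g_o χ := aco_one χ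
  g_ι ψ χ := aco_inv h χ ψ
  g_i₀ ψ hψ := aco_oneIrr hψ
  gram ψ ψ' hψ hψ' := by
    rw [aco_gram h b hψ hψ']
  gdeg ψ := by
    have h1 := sum_aco_mul_apply (K := K) ψ (1 : G) (by
      intro y _ hy1 hc
      rw [inv_one] at hc
      exact hy1 (isConj_one_left.mp hc))
    have h2 : ∑ χ : IrrCharacter G, (aco K χ ψ : ℂ) * (χ : G → ℂ) 1 =
        ((∑ χ : IrrCharacter G, aco K χ ψ * (charDegree (χ : G → ℂ) : ℤ) : ℤ) : ℂ) := by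
      push_cast
      apply Finset.sum_congr rfl
      intro χ _
      rw [apply_one_eq χ]
      push_cast
      rfl
    rw [h2] at h1
    exact_mod_cast h1


theorem sgn_one_hom {A : Type*} [Group A] (z : A) : sgn (1 : A →* ℂˣ) z = 1 := by
  unfold sgn
  simp

theorem sgn_inv_hom {A : Type*} [Group A] (ψ : A →* ℂˣ) {z : A} (hz : z * z = 1) :
    sgn ψ⁻¹ z = sgn ψ z := by
  have h1 := (sgn_spec ψ hz).1
  have h2 := (sgn_spec ψ⁻¹ hz).1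
  have h3 : ((ψ⁻¹ z : ℂˣ) : ℂ) = ((ψ z : ℂˣ) : ℂ) := by
    have : ψ z * ψ z = 1 := by rw [← map_mul, hz, map_one]
    have h4 : (ψ z)⁻¹ = ψ z := inv_eq_of_mul_eq_one_left this
    rw [MonoidHom.inv_apply, h4]
  rw [h2, h1] at h3
  exact_mod_cast h3

/-- `χ(t) = - tau χ`. -/
theorem apply_t_eq (h : Hyp t s K) (χ : IrrCharacter G) :
    (χ : G → ℂ) t = -((tau (fun (ψ : ↥K →* ℂˣ) (χ : IrrCharacter G) => aco K χ ψ)
      (fun ψ => sgn ψ (⟨t, h.htK⟩ : ↥K)) χ : ℤ) : ℂ) := by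
  rw [apply_eq_neg_sum_aco χ h.htK (t_ne_one h)]
  unfold tau
  push_cast
  congr 1
  apply Finset.sum_congr rfl
  intro ψ _
  rw [(sgn_spec ψ (t_mul_t h)).1]

open scoped Classical in
-- [C5b]
theorem exists_latI_num (h : Hyp t s K) (b : Basic t s K) (hk : 4 ≤ Nat.card K)
    (hpairs : ∀ x ∈ K, x ≠ 1 →
      Nat.card {p : G × G // orderOf p.1 = 2 ∧ orderOf p.2 = 2 ∧ p.1 * p.2 = x} = Nat.card K)
    {ν : ↥K →* ℂˣ} (hν : ν ≠ 1) (hν' : ∀ ψ : ↥K →* ℂˣ, ψ⁻¹ = ψ ↔ ψ = 1 ∨ ψ = ν) :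
    ∃ (δ : ℤ) (X : IrrCharacter G) (Θ : (↥K →* ℂˣ) → IrrCharacter G) (e₂ e₃ : ℤ)
      (Y₂ Y₃ : IrrCharacter G),
      LatI (oneIrr G) (1 : ↥K →* ℂˣ) (fun ψ => ψ⁻¹) ν (fun ψ χ => aco K χ ψ) δ X Θ e₂ e₃ Y₂ Y₃ ∧
      LatNum (fun χ : IrrCharacter G => (charDegree (χ : G → ℂ) : ℤ)) (1 : ↥K →* ℂˣ) ν δ X Θ
        e₂ e₃ Y₂ Y₃ (Nat.card K : ℤ) (Nat.card G : ℤ) := by
  have hL := latHyp_concrete h b hk hν hν'
  set ε : (↥K →* ℂˣ) → ℤ := fun ψ => sgn ψ (⟨t, h.htK⟩ : ↥K) with hεdef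
  have hε : ∀ ψ, ε ψ = 1 ∨ ε ψ = -1 := fun ψ => (sgn_spec ψ (t_mul_t h)).2
  have hει : ∀ ψ : ↥K →* ℂˣ, ε ψ⁻¹ = ε ψ := fun ψ => sgn_inv_hom ψ (t_mul_t h)
  have hεo : ε 1 = 1 := sgn_one_hom _
  have hεs : ∑ ψ, ε ψ = 0 := sum_sgn h
  have hcardΨ : (Fintype.card (↥K →* ℂˣ) : ℤ) = (Nat.card K : ℤ) := by
    rw [dual_card, ← Nat.card_eq_fintype_card]
  have hGpos : (0 : ℤ) < (Nat.card G : ℤ) := by exact_mod_cast Nat.card_pos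
  have hB : ∀ ψ : ↥K →* ℂˣ, ψ ≠ 1 → ((Nat.card G : ℤ) : ℚ) * ∑ χ : IrrCharacter G,
      ((tau (fun (ψ : ↥K →* ℂˣ) (χ : IrrCharacter G) => aco K χ ψ) ε χ : ℤ) : ℚ) ^ 2 *
        ((aco K χ ψ : ℤ) : ℚ) / (((charDegree (χ : G → ℂ) : ℤ)) : ℚ) =
      4 * ((Nat.card K : ℤ) : ℚ) ^ 3 := by
    intro ψ hψ
    have h1 := aco_bconst h b hpairs hψ
    have h2 : ∀ χ : IrrCharacter G,
        (χ : G → ℂ) t * (χ : G → ℂ) t * (aco K χ ψ : ℂ) / (χ : G → ℂ) 1 =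
        (((((tau (fun (ψ : ↥K →* ℂˣ) (χ : IrrCharacter G) => aco K χ ψ) ε χ : ℤ) : ℚ) ^ 2 *
        ((aco K χ ψ : ℤ) : ℚ) / (((charDegree (χ : G → ℂ) : ℤ)) : ℚ) : ℚ)) : ℂ) := by
      intro χ
      rw [apply_t_eq h χ, apply_one_eq χ]
      push_cast
      ring
    rw [Finset.sum_congr rfl (fun χ _ => h2 χ)] at h1
    have h3 : (((((Nat.card G : ℤ) : ℚ) * ∑ χ : IrrCharacter G,
      ((tau (fun (ψ : ↥K →* ℂˣ) (χ : IrrCharacter G) => aco K χ ψ) ε χ : ℤ) : ℚ) ^ 2 *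
        ((aco K χ ψ : ℤ) : ℚ) / (((charDegree (χ : G → ℂ) : ℤ)) : ℚ) : ℚ)) : ℂ) =
      ((4 * ((Nat.card K : ℤ) : ℚ) ^ 3 : ℚ) : ℂ) := by
      push_cast
      push_cast at h1
      exact h1
    exact_mod_cast h3
  have hcong : ∀ χ : IrrCharacter G, (Nat.card K : ℤ) ∣
      (charDegree (χ : G → ℂ) : ℤ) + ∑ ψ : ↥K →* ℂˣ, aco K χ ψ := fun χ => aco_cong χ
  have hN : 2 * (Nat.card K : ℤ) ∣ (Nat.card G : ℤ) := by
    have h1 : Nat.card (Subgroup.centralizer ({t} : Set G)) ∣ Nat.card G :=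
      Subgroup.card_subgroup_dvd_card _
    rw [b.card_H] at h1
    exact_mod_cast h1
  rcases lat_struct hL with ⟨δ, X, Θ, e₂, e₃, Y₂, Y₃, h1⟩ | ⟨δ, X, Θ, e, Y, ψ₁, ψ₂, h2⟩
  · exact ⟨δ, X, Θ, e₂, e₃, Y₂, Y₃, h1,
      latI_num hL h1 ε hε hει hεo hεs _ _ hcardΨ hB hcong hN hGpos⟩
  · exfalso
    have hGne : ((Nat.card G : ℤ) : ℚ) ≠ 0 := by
      have : (Nat.card G : ℤ) ≠ 0 := hGpos.ne'
      exact_mod_cast this
    refine latII_false hL h2 ε hε hει hεo hεs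
      (4 * ((Nat.card K : ℤ) : ℚ) ^ 3 / ((Nat.card G : ℤ) : ℚ)) ?_
    intro ψ hψ
    rw [eq_div_iff hGne, mul_comm]
    exact hB ψ hψ


omit [Fintype G] [IsMulCommutative ↥K] [Fintype ↥K] [Fintype (↥K →* ℂˣ)] in
theorem outer_inv' {x : G} (hx : IsOuter K x) : IsOuter K x⁻¹ := by
  intro g hg
  apply hx g
  have : g * x * g⁻¹ = (g * x⁻¹ * g⁻¹)⁻¹ := by group
  rw [this]
  exact K.inv_mem hg

omit [Fintype G] [IsMulCommutative ↥K] [Fintype ↥K] [Fintype (↥K →* ℂˣ)] in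
theorem outer_sq_ne_one' (h : Hyp t s K) {x : G} (hx : IsOuter K x) : x ^ 2 ≠ 1 := by
  intro h2
  by_cases h1 : x = 1
  · apply hx 1
    rw [h1]
    simp
  · have ho : orderOf x = 2 := orderOf_eq_prime h2 h1
    obtain ⟨c, hc⟩ := isConj_iff.mp (h.hconj x t ho h.ht)
    apply hx c
    rw [hc]
    exact h.htK

omit [Fintype G] [IsMulCommutative ↥K] [Fintype ↥K] [Fintype (↥K →* ℂˣ)] in
theorem outer_not_isConj {x : G} (hx : IsOuter K x) : ∀ y ∈ K, y ≠ 1 → ¬ IsConj y x⁻¹ := by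
  intro y hy _ hc
  obtain ⟨c, hc⟩ := isConj_iff.mp hc
  apply hx c⁻¹
  have : c⁻¹ * x * c⁻¹⁻¹ = y⁻¹ := by
    have hx' : x = (c * y * c⁻¹)⁻¹ := by rw [hc, inv_inv]
    rw [hx']
    group
  rw [this]
  exact K.inv_mem hy

omit [Fintype G] [IsMulCommutative ↥K] [Fintype ↥K] [Fintype (↥K →* ℂˣ)] in
theorem rinv_inv (x : G) : rinv x⁻¹ = rinv x := by
  unfold rinv
  apply Nat.card_congr
  refine Equiv.subtypeEquivRight ?_
  intro u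
  constructor
  · rintro ⟨h1, h2⟩
    refine ⟨h1, ?_⟩
    rw [inv_inv] at h2
    have : u * x * u⁻¹ = (u * x⁻¹ * u⁻¹)⁻¹ := by group
    rw [this, h2]
  · rintro ⟨h1, h2⟩
    refine ⟨h1, ?_⟩
    rw [inv_inv]
    have : u * x⁻¹ * u⁻¹ = (u * x * u⁻¹)⁻¹ := by group
    rw [this, h2, inv_inv]

open scoped Classical in
-- [C6]
theorem outer_formula (h : Hyp t s K) (b : Basic t s K) (hk : 4 ≤ Nat.card K)
    {ν : ↥K →* ℂˣ} (hν : ν ≠ 1) (hν' : ∀ ψ : ↥K →* ℂˣ, ψ⁻¹ = ψ ↔ ψ = 1 ∨ ψ = ν)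
    {δ e₂ e₃ : ℤ} {X Y₂ Y₃ : IrrCharacter G} {Θ : (↥K →* ℂˣ) → IrrCharacter G}
    (h1 : LatI (oneIrr G) (1 : ↥K →* ℂˣ) (fun ψ => ψ⁻¹) ν (fun ψ χ => aco K χ ψ) δ X Θ
      e₂ e₃ Y₂ Y₃)
    (hn : LatNum (fun χ : IrrCharacter G => (charDegree (χ : G → ℂ) : ℤ)) (1 : ↥K →* ℂˣ) ν δ X Θ
        e₂ e₃ Y₂ Y₃ (Nat.card K : ℤ) (Nat.card G : ℤ))
    {x : G} (hx : IsOuter K x) :
    (rinv x : ℂ) =
      if δ = 1 then ((2 * (Nat.card K : ℤ) + 1 : ℤ) : ℂ) + (Nat.card K : ℂ) * (X : G → ℂ) x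
      else ((Nat.card K : ℂ) - 1) * (X : G → ℂ) x := by
  have hL := latHyp_concrete h b hk hν hν'
  set ε : (↥K →* ℂˣ) → ℤ := fun ψ => sgn ψ (⟨t, h.htK⟩ : ↥K) with hεdef
  have hε : ∀ ψ, ε ψ = 1 ∨ ε ψ = -1 := fun ψ => (sgn_spec ψ (t_mul_t h)).2
  have hει : ∀ ψ : ↥K →* ℂˣ, ε ψ⁻¹ = ε ψ := fun ψ => sgn_inv_hom ψ (t_mul_t h)
  have hεo : ε 1 = 1 := sgn_one_hom _
  have hεs : ∑ ψ, ε ψ = 0 := sum_sgn h
  have hcardΨ : (Fintype.card (↥K →* ℂˣ) : ℤ) = (Nat.card K : ℤ) := by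
    rw [dual_card, ← Nat.card_eq_fintype_card]
  -- the structure constant
  have hS := sum_sq_invol h b x⁻¹
  rw [inv_inv, Cfsg.Agent.S0235.result x⁻¹ (outer_sq_ne_one' h (outer_inv' hx))] at hS
  have hr : Nat.card {u : G // orderOf u = 2 ∧ u * x⁻¹ * u⁻¹ = x⁻¹⁻¹} = rinv x := by
    rw [← rinv_inv x]; rfl
  rw [hr] at hS
  -- the weights
  have hW := lat_W hL h1 ε hε hει hεo hεs _ _ hcardΨ hn
  set k : ℚ := ((Nat.card K : ℤ) : ℚ) with hkdef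
  have h2 : ∀ χ : IrrCharacter G,
      (χ : G → ℂ) t * (χ : G → ℂ) t * (χ : G → ℂ) x / (χ : G → ℂ) 1 =
      (((-(δ : ℚ) / (k + δ) : ℚ) : ℂ) * ∑ ψ : ↥K →* ℂˣ, ((aco K χ ψ : ℂ) * (χ : G → ℂ) x)) +
      ((k * (1 + δ) / (k + δ) : ℚ) : ℂ) * (((ev (oneIrr G) χ : ℤ) : ℂ) * (χ : G → ℂ) x) +
      ((1 / (2 * k + δ) + (k - 1) / (k + δ) : ℚ) : ℂ) * (((ev X χ : ℤ) : ℂ) * (χ : G → ℂ) x) := by
    intro χ
    have h3 : (χ : G → ℂ) t * (χ : G → ℂ) t * (χ : G → ℂ) x / (χ : G → ℂ) 1 =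
        (((((tau (fun (ψ : ↥K →* ℂˣ) (χ : IrrCharacter G) => aco K χ ψ) ε χ : ℤ) : ℚ) ^ 2 /
          (((charDegree (χ : G → ℂ) : ℤ)) : ℚ) : ℚ)) : ℂ) * (χ : G → ℂ) x := by
      rw [apply_t_eq h χ, apply_one_eq χ]
      push_cast
      ring
    rw [h3, hW χ, ← Finset.sum_mul]
    push_cast
    ring
  rw [Finset.sum_congr rfl (fun χ _ => h2 χ)] at hS
  rw [Finset.sum_add_distrib, Finset.sum_add_distrib, ← Finset.mul_sum, ← Finset.mul_sum,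
    ← Finset.mul_sum, Finset.sum_comm] at hS
  have h4 : ∀ ψ : ↥K →* ℂˣ, ∑ χ : IrrCharacter G, (aco K χ ψ : ℂ) * (χ : G → ℂ) x = 0 :=
    fun ψ => sum_aco_mul_apply ψ x (outer_not_isConj hx)
  rw [Finset.sum_congr rfl (fun ψ _ => h4 ψ), Finset.sum_const_zero, mul_zero, zero_add] at hS
  have h5 : ∀ a : IrrCharacter G, ∑ χ : IrrCharacter G, ((ev a χ : ℤ) : ℂ) * (χ : G → ℂ) x =
      (a : G → ℂ) x := by
    intro a
    unfold ev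
    simp
  rw [h5, h5, oneIrr_apply, mul_one] at hS
  -- arithmetic
  have hkpos : (4 : ℚ) ≤ k := by
    rw [hkdef]
    exact_mod_cast hk
  have hNq : ((Nat.card G : ℕ) : ℂ) = ((2 * k * (2 * k + δ) * (k + δ) : ℚ) : ℂ) := by
    have := hn.hN
    rw [hkdef]
    have h6 : ((Nat.card G : ℤ) : ℂ) = ((2 * (Nat.card K : ℤ) * (2 * (Nat.card K : ℤ) + δ) *
      ((Nat.card K : ℤ) + δ) : ℤ) : ℂ) := by rw [this]
    push_cast at h6 ⊢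
    exact h6
  have hKq : ((Nat.card K : ℕ) : ℂ) = ((k : ℚ) : ℂ) := by
    rw [hkdef]; push_cast; rfl
  rw [hNq, hKq] at hS
  have hkC : ((k : ℚ) : ℂ) ≠ 0 := by
    have : k ≠ 0 := by linarith
    exact_mod_cast this
  rcases h1.hδ with hδ | hδ
  · have hgoalK : (((2 * (Nat.card K : ℤ) + 1 : ℤ)) : ℂ) = 2 * ((k : ℚ) : ℂ) + 1 := by
      push_cast; rw [hKq]
    rw [if_pos hδ, hKq, hgoalK]
    subst hδ
    have hk1 : (k + 1 : ℚ) ≠ 0 := by linarith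
    have hk2 : (2 * k + 1 : ℚ) ≠ 0 := by linarith
    have hk1C : ((k : ℚ) : ℂ) + 1 ≠ 0 := by exact_mod_cast hk1
    have hk2C : 2 * ((k : ℚ) : ℂ) + 1 ≠ 0 := by exact_mod_cast hk2
    push_cast at hS ⊢
    field_simp at hS
    have h7 : (4 : ℂ) * (k : ℂ) ^ 2 ≠ 0 := by
      apply mul_ne_zero (by norm_num) (pow_ne_zero _ hkC)
    apply mul_left_cancel₀ h7
    linear_combination (-((k : ℚ) : ℂ)) * hS
  · have hδ1 : δ ≠ 1 := by rw [hδ]; norm_num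
    rw [if_neg hδ1, hKq]
    subst hδ
    have hk1 : (k + (-1 : ℤ) : ℚ) ≠ 0 := by push_cast; linarith
    have hk2 : (2 * k + (-1 : ℤ) : ℚ) ≠ 0 := by push_cast; linarith
    have hk1C : ((k : ℚ) : ℂ) + (-1) ≠ 0 := by
      have : (k + (-1) : ℚ) ≠ 0 := by linarith
      exact_mod_cast this
    have hk2C : 2 * ((k : ℚ) : ℂ) + (-1) ≠ 0 := by
      have : (2 * k + (-1) : ℚ) ≠ 0 := by linarith
      exact_mod_cast this
    push_cast at hS ⊢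
    field_simp at hS
    have h7 : (4 : ℂ) * (k : ℂ) ^ 2 ≠ 0 := by
      apply mul_ne_zero (by norm_num) (pow_ne_zero _ hkC)
    apply mul_left_cancel₀ h7
    linear_combination (-((k : ℚ) : ℂ)) * hS


open scoped Classical in
/-- In shape I, `X` has all coefficients `δ`. -/
theorem aco_X {ν : ↥K →* ℂˣ}
    {δ e₂ e₃ : ℤ} {X Y₂ Y₃ : IrrCharacter G} {Θ : (↥K →* ℂˣ) → IrrCharacter G}
    (h1 : LatI (oneIrr G) (1 : ↥K →* ℂˣ) (fun ψ => ψ⁻¹) ν (fun ψ χ => aco K χ ψ) δ X Θ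
      e₂ e₃ Y₂ Y₃) {ψ : ↥K →* ℂˣ} (hψ : ψ ≠ 1) : aco K X ψ = δ := by
  by_cases hψν : ψ = ν
  · subst hψν
    have := h1.g_ν X
    rw [this]
    simp [ev, h1.X_ne, Ne.symm h1.Y₂_ne.2, Ne.symm h1.Y₃_ne.2.1]
  · have := h1.g_gen ψ hψ hψν X
    rw [this]
    simp [ev, h1.X_ne, Ne.symm (h1.Θ_ne ψ hψ hψν).2.1]

open scoped Classical in
-- [C7]
theorem partI_of_hyp' (h : Hyp t s K) (b : Basic t s K) (hk : 4 ≤ Nat.card K)
    (hpairs : ∀ x ∈ K, x ≠ 1 →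
      Nat.card {p : G × G // orderOf p.1 = 2 ∧ orderOf p.2 = 2 ∧ p.1 * p.2 = x} = Nat.card K) :
    ∃ (δ : ℤ) (Χ : G → ℂ), PartI K δ Χ := by
  obtain ⟨ν, hν, hν'⟩ := exists_real_dual h b
  obtain ⟨δ, X, Θ, e₂, e₃, Y₂, Y₃, h1, hn⟩ := exists_latI_num h b hk hpairs hν hν'
  refine ⟨δ, (X : G → ℂ), ?_⟩
  refine ⟨h1.hδ, X.2, ?_, ?_, hn.hN, ?_⟩
  · rw [apply_one_eq X, hn.degX]
  · intro y hy hy1
    rw [apply_eq_neg_sum_aco X hy hy1]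
    have h2 : ∀ ψ : ↥K →* ℂˣ, (aco K X ψ : ℂ) * ((ψ ⟨y, hy⟩ : ℂˣ) : ℂ) =
        (δ : ℂ) * ((ψ ⟨y, hy⟩ : ℂˣ) : ℂ) - (if ψ = 1 then (δ : ℂ) else 0) := by
      intro ψ
      by_cases hψ : ψ = 1
      · rw [if_pos hψ, hψ, aco_one]
        simp
      · rw [if_neg hψ, aco_X h1 hψ]
        simp
    rw [Finset.sum_congr rfl (fun ψ _ => h2 ψ), Finset.sum_sub_distrib, ← Finset.mul_sum,
      dual_sum_apply, if_neg (by
        intro hc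
        apply hy1
        have := congrArg Subtype.val hc
        simpa using this)]
    simp
  · intro x hx
    have := outer_formula h b hk hν hν' h1 hn hx
    convert this using 2

end Assembly

end Cfsg.Agent.Lib.Helper30.BSW
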