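import Mathlib
import Cfsg.Agent.Lib.Helper30.BSW.Defs
import Cfsg.Agent.Lib.Helper50.BSWBasic
import Cfsg.Agent.Lib.Helper84.BSWOuter
import Cfsg.Agent.Lib.Helper84.BSWReal
import Cfsg.Agent.Lib.Helper51.BSWValues
import Cfsg.Agent.Lib.Helper87.BSWF1b
import Cfsg.Agent.Lib.Helper87.BSWF1e
import Cfsg.Agent.Lib.Helper26.BSWF1c
import Cfsg.Agent.Lib.Helper26.BSWF2c
import Cfsg.Agent.Lib.Helper45.BSW.Norm
import Cfsg.Agent.Lib.Helper62.BSWF2f
import Cfsg.Agent.Lib.Helper47.BSWNegNormalizer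
import Cfsg.Agent.Lib.Helper78.BSWF2h
import Cfsg.Agent.Lib.Helper73.BSWF3

set_option autoImplicit false

/-!
# Abstract Brauer-Suzuki-Wall (S3282): the group-theoretic endgame (helper30)

`concl_of_pos`, `concl_of_neg`: from the output `PartI K δ Χ` of the character theory to the
conclusion, for `δ = 1` and `δ = -1`; `concl_of_partI`: both together with the case `|K| = 2`.
-/

namespace Cfsg.Agent.Lib.Helper30.BSW

open Cfsg

variable {G : Type*} [Group G] {t s : G} {K : Subgroup G}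

/-- The centralizer of a conjugate. -/
theorem centralizer_conj_singleton (a q : G) :
    Subgroup.centralizer ({a * q * a⁻¹} : Set G) =
      (Subgroup.centralizer ({q} : Set G)).map (MulAut.conj a).toMonoidHom := by
  ext g
  rw [Subgroup.mem_centralizer_singleton_iff, Subgroup.mem_map]
  constructor
  · intro hg
    refine ⟨a⁻¹ * g * a, ?_, ?_⟩
    · rw [Subgroup.mem_centralizer_singleton_iff]
      have h1 : a⁻¹ * g * a * q = a⁻¹ * (g * (a * q * a⁻¹)) * a := by group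
      have h2 : q * (a⁻¹ * g * a) = a⁻¹ * ((a * q * a⁻¹) * g) * a := by group
      rw [h1, h2, hg]
    · simp only [MulEquiv.coe_toMonoidHom, MulAut.conj_apply]
      group
  · rintro ⟨c, hc, rfl⟩
    rw [Subgroup.mem_centralizer_singleton_iff] at hc
    simp only [MulEquiv.coe_toMonoidHom, MulAut.conj_apply]
    have h1 : a * c * a⁻¹ * (a * q * a⁻¹) = a * (c * q) * a⁻¹ := by group
    have h2 : a * q * a⁻¹ * (a * c * a⁻¹) = a * (q * c) * a⁻¹ := by group
    rw [h1, h2, hc]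

theorem concl_of_pos [Finite G] (h : Hyp t s K) (b : Basic t s K) (hk : 4 ≤ Nat.card K)
    {Χ : G → ℂ} (p : PartI K 1 Χ) : Concl G := by
  obtain ⟨hv, hcnt⟩ := Cfsg.Agent.Lib.Helper51.BSW.pos_values h b hk p
  have hpos : 0 < Nat.card {x : G // IsOuter K x ∧ Χ x = 0} := by
    rw [hcnt]
    have : 1 < (2 * Nat.card K + 1) ^ 2 := by nlinarith
    omega
  obtain ⟨⟨x₀, hx₀, hΧ⟩⟩ := (Nat.card_pos_iff.1 hpos).1
  obtain ⟨hQc, hQy⟩ := Cfsg.Agent.Lib.Helper87.BSW.pos_Q h b hk p hx₀ hΧ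
  have hNc := Cfsg.Agent.Lib.Helper26.BSWF1c.pos_normalizer_card h b hk p hx₀ hΧ
  obtain ⟨a, ha⟩ := Cfsg.Agent.Lib.Helper45.BSW.pos_normalizer h b
    (Subgroup.centralizer ({x₀} : Set G)) hQc
    (fun y hy hy1 => ⟨(hQy y hy hy1).1, (hQy y hy hy1).2.2⟩) hNc
  set Q := Subgroup.centralizer ({x₀} : Set G) with hQdef
  set Q₀ : Subgroup G := Q.map (MulAut.conj a).toMonoidHom with hQ₀
  have hcard : Nat.card G = 2 * Nat.card K * (2 * Nat.card K + 1) * (Nat.card K + 1) := by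
    have := p.hcard
    have h2 : ((Nat.card G : ℕ) : ℤ) =
        ((2 * Nat.card K * (2 * Nat.card K + 1) * (Nat.card K + 1) : ℕ) : ℤ) := by
      rw [this]; push_cast; ring
    exact_mod_cast h2
  have hQ₀card : Nat.card Q₀ = 2 * Nat.card K + 1 := by
    rw [hQ₀, ← hQc]
    exact (Nat.card_congr (Q.equivMapOfInjective (MulAut.conj a).toMonoidHom
      (MulAut.conj a).injective).toEquiv).symm
  have hQ₀y : ∀ y ∈ Q₀, y ≠ 1 → IsOuter K y ∧ Subgroup.centralizer ({y} : Set G) = Q₀ := by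
    intro y hy hy1
    rw [hQ₀, Subgroup.mem_map] at hy
    obtain ⟨q, hq, rfl⟩ := hy
    simp only [MulEquiv.coe_toMonoidHom, MulAut.conj_apply] at hy1 ⊢
    have hq1 : q ≠ 1 := by
      intro hq1
      apply hy1
      rw [hq1]
      group
    obtain ⟨ho, _, hc⟩ := hQy q hq hq1
    refine ⟨Cfsg.Agent.Lib.Helper84.BSWOuter.outer_conj ho a, ?_⟩
    rw [centralizer_conj_singleton, hc]
  exact Cfsg.Agent.Lib.Helper87.BSW.concl_of_Q_pos h b Q₀ hcard hQ₀card hQ₀y ha

theorem concl_of_neg [Finite G] (h : Hyp t s K) (b : Basic t s K) (hk : 4 ≤ Nat.card K)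
    {Χ : G → ℂ} (p : PartI K (-1) Χ) : Concl G := by
  obtain ⟨hv, hcnt0, hcnt1⟩ := Cfsg.Agent.Lib.Helper51.BSW.neg_values h b hk p
  have hpos : 0 < Nat.card {x : G // IsOuter K x ∧ Χ x = 0} := by
    rw [hcnt0]
    have h1 : 7 ≤ 2 * Nat.card K - 1 := by omega
    have : 49 ≤ (2 * Nat.card K - 1) ^ 2 := by nlinarith
    omega
  obtain ⟨⟨x, hx, hΧ⟩⟩ := (Nat.card_pos_iff.1 hpos).1
  obtain ⟨hc1, hc2, hc3⟩ := Cfsg.Agent.Lib.Helper26.BSWF2c.neg_nonreal h b hk p
  have hTI := Cfsg.Agent.Lib.Helper62.BSW.neg_TI h b hk p x hx hΧ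
  obtain ⟨w, hw, hΧw, hNQ⟩ :=
    Cfsg.Agent.Lib.Helper47.BSWNegNormalizer.neg_normalizer h b hk p hx hΧ
  -- an involution inverting `w`
  have hrw : (rinv w : ℂ) = (Nat.card K : ℂ) - 1 := by
    have := p.hout w hw
    rw [if_neg (by norm_num), hΧw, mul_one] at this
    exact this
  have hrw' : rinv w + 1 = Nat.card K := by
    have : ((rinv w + 1 : ℕ) : ℂ) = ((Nat.card K : ℕ) : ℂ) := by
      push_cast
      rw [hrw]
      ring
    exact_mod_cast this
  have hrpos : 0 < rinv w := by omega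
  obtain ⟨⟨u, hu, huw⟩⟩ := (Nat.card_pos_iff.1 hrpos).1
  obtain ⟨hinv, hDy, hrD⟩ := Cfsg.Agent.Lib.Helper84.BSWReal.real_outer h b hw hu huw
  obtain ⟨_, hcomm⟩ := Cfsg.Agent.Lib.Helper84.BSWReal.inverts_and_comm h b hw hu huw
  have hDcard : Nat.card (Subgroup.centralizer ({w} : Set G)) + 1 = Nat.card K := by
    rw [← hrD]; exact hrw'
  obtain ⟨hND, huD, hX⟩ := Cfsg.Agent.Lib.Helper45.BSW.neg_D h b hw hu huw hDcard
  have hcard : Nat.card G = 2 * Nat.card K * (2 * Nat.card K - 1) * (Nat.card K - 1) := by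
    have := p.hcard
    have h1 : 1 ≤ Nat.card K := by omega
    have h2 : ((Nat.card G : ℕ) : ℤ) =
        ((2 * Nat.card K * (2 * Nat.card K - 1) * (Nat.card K - 1) : ℕ) : ℤ) := by
      rw [this]
      have h3 : ((2 * Nat.card K - 1 : ℕ) : ℤ) = 2 * (Nat.card K : ℤ) - 1 := by
        rw [Nat.cast_sub (by omega)]; push_cast; ring
      have h4 : ((Nat.card K - 1 : ℕ) : ℤ) = (Nat.card K : ℤ) - 1 := by
        rw [Nat.cast_sub h1]; push_cast; ring
      rw [Nat.cast_mul, Nat.cast_mul, h3, h4]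
      push_cast
      ring
    exact_mod_cast h2
  exact Cfsg.Agent.Lib.Helper78.BSWF2h.concl_of_neg_data hk
    (Subgroup.centralizer ({x} : Set G)) (Subgroup.centralizer ({w} : Set G)) u hcard
    (hc2 x hx hΧ) hTI hcomm hDcard hNQ hu huD hinv hND hX

/-- From the character-theoretic part to the conclusion. -/
theorem concl_of_partI [Finite G] (h : Hyp t s K)
    (hpart : Basic t s K → 4 ≤ Nat.card K → ∃ (δ : ℤ) (Χ : G → ℂ), PartI K δ Χ) : Concl G := by
  have b := Cfsg.Agent.Lib.Helper50.BSW.basic_of_hyp h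
  have hk2 : 2 ≤ Nat.card K := by
    have hK : Nat.card K ≠ 0 := Nat.card_pos.ne'
    have hK1 : Nat.card K ≠ 1 := by
      intro h1
      have hKbot : K = ⊥ := Subgroup.card_eq_one.1 h1
      have ht1 : t = 1 := by
        have := h.htK
        rw [hKbot, Subgroup.mem_bot] at this
        exact this
      have := h.ht
      rw [ht1, orderOf_one] at this
      omega
    omega
  obtain ⟨r, hr⟩ := b.even_K
  by_cases hk : Nat.card K = 2
  · exact Cfsg.Agent.Lib.Helper73.BSW.concl_of_two h b hk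
  · have hk4 : 4 ≤ Nat.card K := by omega
    obtain ⟨δ, Χ, p⟩ := hpart b hk4
    rcases p.hδ with rfl | rfl
    · exact concl_of_pos h b hk4 p
    · exact concl_of_neg h b hk4 p

end Cfsg.Agent.Lib.Helper30.BSW
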